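import Groth.Agent.FEtSepBC.Equiv

/-!
# Covers of products are constant after a cover of the second factor
-/

set_option autoImplicit false
set_option linter.style.haveILetI false
set_option backward.isDefEq.respectTransparency false
set_option backward.isDefEq.respectTransparency.types false
set_option maxHeartbeats 800000

universe u

open CategoryTheory CategoryTheory.Limits AlgebraicGeometry

noncomputable section

namespace Groth.Agent.FEtProd

open Groth.Agent.FEtGal Groth.Agent.FEtSepBC

/-- the two restrictions around a commutative square -/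
def restrictSquareIso {A B C D : Scheme.{u}} (a : A ⟶ B) (b : B ⟶ D) (c : A ⟶ C) (d : C ⟶ D)
    (h : a ≫ b = c ≫ d) (E : FEt.Cat D) :
    (FEt.restrict a).obj ((FEt.restrict b).obj E) ≅ (FEt.restrict c).obj ((FEt.restrict d).obj E) :=
  (restrictCompIso a b (a ≫ b) rfl E).symm ≪≫ restrictCompIso c d (a ≫ b) h E

variable {k : Type u} [Field k] [IsAlgClosed k] {X Y : Scheme.{u}}
  (pX : X ⟶ Spec (CommRingCat.of k)) (pY : Y ⟶ Spec (CommRingCat.of k))

/-- **a cover of a product becomes constant over a cover of the second factor** -/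
theorem exists_constant [IsProper pX] [ConnectedSpace X] [ConnectedSpace Y] (W : FEt.Cat (pullback pX pY)) :
    ∃ (V₀ : FEt.Cat X) (T : FEt.Cat Y), ConnectedSpace T.left ∧
      Nonempty ((FEt.restrict (pullback.fst (pullback.snd pX pY) (str T))).obj
          ((FEt.restrict (pullback.fst pX pY)).obj V₀) ≅
        (FEt.restrict (pullback.fst (pullback.snd pX pY) (str T))).obj W) := by
  obtain ⟨y⟩ : Nonempty Y := inferInstance
  obtain ⟨Ω, _, _, b, -⟩ := PiSpDesc.exists_geom_point y
  obtain ⟨φ, hφ⟩ := Spec.map_surjective (b ≫ pY)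
  letI : Algebra k Ω := φ.hom.toAlgebra
  have hb : b ≫ pY = st k Ω := hφ.symm
  let β : pullback pX (st k Ω) ⟶ pullback pX pY :=
    pullback.lift (pullback.fst _ _) (pullback.snd _ _ ≫ b) (by rw [Category.assoc, hb]; exact pullback.condition)
  haveI := isEquivalence_sepClosed k Ω pX
  let V₀ : FEt.Cat X := (FEt.restrict (pullback.fst pX (st k Ω))).objPreimage ((FEt.restrict β).obj W)
  let eΩ := (FEt.restrict (pullback.fst pX (st k Ω))).objObjPreimageIso ((FEt.restrict β).obj W)
  let I := Scheme.IdealSheafData.vanishingIdeal (X := X) ⊤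
  haveI : IsReduced I.subscheme := DvrDom.isReduced_vanishingIdeal_subscheme _
  haveI hcs : Surjective I.subschemeι := ⟨Set.range_eq_univ.1 (by
    rw [Scheme.IdealSheafData.range_subschemeι]
    simp [I])⟩
  have hc : uh I.subschemeι := ⟨⟨inferInstance, inferInstance⟩, hcs⟩
  haveI : ConnectedSpace I.subscheme :=
    (Equiv.ofBijective _ (show Function.Bijective I.subschemeι from ⟨I.subschemeι.injective, hcs.1⟩)).toHomeomorphOfContinuousClosed
      I.subschemeι.continuous I.subschemeι.isClosedMap |>.connectedSpace_iff.2 inferInstance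
  let pr := I.subschemeι ≫ pX
  haveI : IsProper pr := inferInstance
  haveI : Flat pr := inferInstance
  haveI : LocallyOfFinitePresentation pr := inferInstance
  haveI := geometricallyConnected_of_connected pr
  haveI := geometricallyReduced_of_reduced pr
  let q := pullback.snd pr pY
  let cP : pullback pr pY ⟶ pullback pX pY :=
    pullback.lift (pullback.fst _ _ ≫ I.subschemeι) (pullback.snd _ _) (by rw [Category.assoc]; exact pullback.condition)
  have hcP : IsPullback (pullback.fst pr pY) cP I.subschemeι (pullback.fst pX pY) :=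
    IsPullback.of_bot (by rw [pullback.lift_snd]; exact IsPullback.of_hasPullback pr pY)
      (pullback.lift_fst _ _ _).symm (IsPullback.of_hasPullback pX pY)
  let gb := pullback.fst q b
  let μ : pullback q b ⟶ pullback pX (st k Ω) :=
    pullback.lift (gb ≫ cP ≫ pullback.fst pX pY) (pullback.snd q b) (by
      rw [← hb]
      simp only [Category.assoc, pullback.condition (f := pX) (g := pY), cP, pullback.lift_snd_assoc]
      exact ((Category.assoc _ _ _).symm.trans (congrArg (· ≫ pY) (pullback.condition (f := q) (g := b)))).trans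
        (Category.assoc _ _ _))
  have hμ : μ ≫ β = gb ≫ cP := by
    apply pullback.hom_ext
    · simp [μ, β]
    · simp only [μ, β, cP, Category.assoc, pullback.lift_snd, pullback.lift_snd_assoc]
      exact (pullback.condition (f := q) (g := b)).symm
  let e : (FEt.restrict gb).obj ((FEt.restrict cP).obj ((FEt.restrict (pullback.fst pX pY)).obj V₀)) ≅
      (FEt.restrict gb).obj ((FEt.restrict cP).obj W) :=
    (FEt.restrict gb).mapIso (restrictCompIso cP (pullback.fst pX pY) _ rfl V₀).symm ≪≫
      restrictSquareIso gb (cP ≫ pullback.fst pX pY) μ (pullback.fst pX (st k Ω))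
        (pullback.lift_fst _ _ _).symm V₀ ≪≫
      (FEt.restrict μ).mapIso eΩ ≪≫ restrictSquareIso μ β gb cP hμ W
  obtain ⟨T, hT, ⟨eT⟩⟩ := exists_iso_of_iso_at_point q _ _ b e
  refine ⟨V₀, T, hT, ?_⟩
  let p2 := pullback.snd pX pY
  let cB : pullback q (str T) ⟶ pullback p2 (str T) :=
    pullback.lift (pullback.fst _ _ ≫ cP) (pullback.snd _ _)
      (by rw [Category.assoc, show cP ≫ p2 = q from pullback.lift_snd _ _ _]; exact pullback.condition)
  have hcB : IsPullback (pullback.fst q (str T)) cB cP (pullback.fst p2 (str T)) :=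
    IsPullback.of_bot (by rw [pullback.lift_snd, show cP ≫ p2 = q from pullback.lift_snd _ _ _]; exact IsPullback.of_hasPullback q (str T))
      (pullback.lift_fst _ _ _).symm (IsPullback.of_hasPullback p2 (str T))
  haveI := isEquivalence_of_uh cB (MorphismProperty.of_isPullback hcB (MorphismProperty.of_isPullback hcP hc))
  exact ⟨(FEt.restrict cB).preimageIso
    (restrictSquareIso cB _ (pullback.fst q (str T)) cP (pullback.lift_fst _ _ _) _ ≪≫ eT ≪≫
      (restrictSquareIso cB _ (pullback.fst q (str T)) cP (pullback.lift_fst _ _ _) W).symm)⟩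

/-- **a cover of a product is dominated by a product of covers** -/
theorem exists_dominated [IsProper pX] [ConnectedSpace X] [ConnectedSpace Y] (W : FEt.Cat (pullback pX pY)) :
    ∃ (X' : FEt.Cat X) (Y' : FEt.Cat Y) (φ : pullback (str X' ≫ pX) (str Y' ≫ pY) ⟶ W.left),
      φ ≫ str W = pullback.map (str X' ≫ pX) (str Y' ≫ pY) pX pY (str X') (str Y') (𝟙 _)
        (Category.comp_id _) (Category.comp_id _) ∧ Surjective φ := by
  obtain ⟨V₀, T, hT, ⟨e⟩⟩ := exists_constant pX pY W
  haveI := hT
  let p1 := pullback.fst pX pY
  let p2 := pullback.snd pX pY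
  let g := pullback.fst p2 (str T)
  let m := pullback.map (str V₀ ≫ pX) (str T ≫ pY) pX pY (str V₀) (str T) (𝟙 _)
        (Category.comp_id _) (Category.comp_id _)
  have hm1 : m ≫ p1 = pullback.fst _ _ ≫ str V₀ := pullback.lift_fst _ _ _
  have hm2 : m ≫ p2 = pullback.snd _ _ ≫ str T := pullback.lift_snd _ _ _
  let η : pullback (str V₀ ≫ pX) (str T ≫ pY) ⟶ pullback (pullback.snd (str V₀) p1) g :=
    pullback.lift (pullback.lift (pullback.fst _ _) m hm1.symm) (pullback.lift m (pullback.snd _ _) hm2)
      (by rw [pullback.lift_snd, pullback.lift_fst])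
  let r : pullback (pullback.snd (str V₀) p1) g ⟶ pullback (str V₀ ≫ pX) (str T ≫ pY) :=
    pullback.lift (pullback.fst _ _ ≫ pullback.fst _ _) (pullback.snd _ _ ≫ pullback.snd _ _) (by
      simp only [Category.assoc]
      rw [pullback.condition_assoc (f := str V₀) (g := p1), pullback.condition_assoc (f := pullback.snd (str V₀) p1) (g := g),
        ← pullback.condition_assoc (f := p2) (g := str T), pullback.condition (f := pX) (g := pY)])
  have hrm : r ≫ m = pullback.fst _ _ ≫ pullback.snd (str V₀) p1 := by
    apply pullback.hom_ext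
    · rw [Category.assoc, hm1, pullback.lift_fst_assoc, Category.assoc, Category.assoc, pullback.condition]
    · rw [Category.assoc, hm2, pullback.lift_snd_assoc, Category.assoc,
        show pullback.snd p2 (str T) ≫ str T = g ≫ p2 from pullback.condition.symm, ← Category.assoc,
        ← pullback.condition]
  have hrη : r ≫ η = 𝟙 _ := by
    apply pullback.hom_ext
    · apply pullback.hom_ext
      · simp [r, η]
      · simp only [η, Category.assoc, pullback.lift_fst, pullback.lift_snd, Category.id_comp]
        exact hrm
    · apply pullback.hom_ext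
      · simp only [η, Category.assoc, pullback.lift_fst, pullback.lift_snd, Category.id_comp]
        exact hrm.trans pullback.condition
      · simp [r, η]
  haveI : Surjective η := ⟨fun z => ⟨r z, by rw [← Scheme.Hom.comp_apply, hrη]; rfl⟩⟩
  haveI : IsIso e.hom.left := isIso_left e.hom
  haveI : Surjective (str T) := ⟨Set.range_eq_univ.1
    ((IsClopen.eq_univ ⟨(str T).isClosedMap.isClosed_range, (str T).isOpenMap.isOpen_range⟩) (Set.range_nonempty _))⟩
  haveI : Surjective g := MorphismProperty.pullback_fst _ _ ‹_›
  let el : pullback (pullback.snd (str V₀) p1) g ⟶ pullback (str W) g := e.hom.left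
  haveI : IsIso el := ‹IsIso e.hom.left›
  refine ⟨V₀, T, η ≫ el ≫ pullback.fst (str W) g, ?_, inferInstance⟩
  have hel : el ≫ pullback.snd (str W) g = pullback.snd (pullback.snd (str V₀) p1) g := MorphismProperty.Over.w e.hom
  rw [Category.assoc, Category.assoc, pullback.condition, ← Category.assoc el, hel, pullback.lift_snd_assoc,
    pullback.lift_fst]

end Groth.Agent.FEtProd
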