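import Groth.Agent.FEtProd.Constant
import Groth.Agent.GalCorr.Basic
import Groth.Agent.LocNoethTop.Basic

/-!
# Restrictions of a cover of a product to rational points of one factor
-/

set_option autoImplicit false
set_option linter.style.haveILetI false
set_option linter.unnecessarySeqFocus false
set_option backward.isDefEq.respectTransparency false
set_option backward.isDefEq.respectTransparency.types false
set_option maxHeartbeats 800000

universe u

open CategoryTheory CategoryTheory.Limits AlgebraicGeometry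

noncomputable section

namespace Groth.Agent.FEtProd

open Groth.Agent.FEtGal Groth.Agent.FEtSepBC Groth.Agent.FEtExp

/-- covers isomorphic over the pieces of a clopen partition are isomorphic -/
theorem nonempty_iso_of_partition {X : Scheme.{u}} {ι : Type u} (O : ι → X.Opens) (hO : TopologicalSpace.IsOpenCover O)
    (hdisj : ∀ i j, i ≠ j → Disjoint (O i : Set X) (O j : Set X)) (E F : FEt.Cat X)
    (e : ∀ i, (FEt.restrict (O i).ι).obj E ≅ (FEt.restrict (O i).ι).obj F) : Nonempty (E ≅ F) := by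
  have hov : ∀ (G : FEt.Cat X) (i j : ι), i ≠ j →
      IsEmpty (pullback (pullback.fst (str G) (O i).ι) (pullback.fst (str G) (O j).ι) : Scheme.{u}) := by
    intro G i j hij
    refine ⟨fun z => ?_⟩
    let P : Scheme.{u} := pullback (pullback.fst (str G) (O i).ι) (pullback.fst (str G) (O j).ι)
    let xi : P ⟶ (O i).toScheme := pullback.fst _ _ ≫ pullback.snd (str G) (O i).ι
    let xj : P ⟶ (O j).toScheme := pullback.snd _ _ ≫ pullback.snd (str G) (O j).ι
    have hm : xi ≫ (O i).ι = xj ≫ (O j).ι := by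
      simp only [xi, xj, Category.assoc, ← pullback.condition (f := str G)]
      rw [pullback.condition_assoc]
    have hz : (xi z).1 = (xj z).1 := by
      have h := congrArg (fun w : P ⟶ X => w z) hm
      simp only [Scheme.Hom.comp_apply] at h
      exact h
    exact Set.disjoint_left.1 (hdisj i j hij) (xi z).2 (by rw [hz]; exact (xj z).2)
  have mk : ∀ (E F : FEt.Cat X) (c : ∀ i, (FEt.restrict (O i).ι).obj E ⟶ (FEt.restrict (O i).ι).obj F),
      ∃ h : E ⟶ F, ∀ i, pullback.fst (str E) (O i).ι ≫ h.left = (c i).left ≫ pullback.fst (str F) (O i).ι := by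
    intro E F c
    let 𝒰 : E.left.OpenCover := (X.openCoverOfIsOpenCover O hO).pullback₁ (str E)
    let m : ∀ i : ι, 𝒰.X i ⟶ F.left := fun i => (c i).left ≫ pullback.fst (str F) (O i).ι
    have hcompat : ∀ i j : ι, pullback.fst (𝒰.f i) (𝒰.f j) ≫ m i = pullback.snd (𝒰.f i) (𝒰.f j) ≫ m j := by
      intro i j
      by_cases hij : i = j
      · subst hij
        rw [(cancel_mono (𝒰.f i)).1 (pullback.condition (f := 𝒰.f i) (g := 𝒰.f i))]
      · haveI : IsEmpty (pullback (𝒰.f i) (𝒰.f j) : Scheme.{u}) := hov E i j hij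
        exact (AlgebraicGeometry.isInitialOfIsEmpty (X := pullback (𝒰.f i) (𝒰.f j))).hom_ext _ _
    have hw : ∀ i : ι, 𝒰.f i ≫ 𝒰.glueMorphisms m hcompat ≫ str F = 𝒰.f i ≫ str E := fun i => by
      rw [← Category.assoc, Scheme.Cover.ι_glueMorphisms]
      show ((c i).left ≫ pullback.fst (str F) (O i).ι) ≫ str F = pullback.fst (str E) (O i).ι ≫ str E
      rw [Category.assoc, pullback.condition, pullback.condition, ← Category.assoc]
      exact congrArg (· ≫ (O i).ι) (MorphismProperty.Over.w (c i))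
    exact ⟨MorphismProperty.Over.homMk (𝒰.glueMorphisms m hcompat) (Scheme.Cover.hom_ext 𝒰 _ _ hw),
      fun i => Scheme.Cover.ι_glueMorphisms 𝒰 m hcompat i⟩
  obtain ⟨h, hh⟩ := mk E F fun i => (e i).hom
  obtain ⟨h', hh'⟩ := mk F E fun i => (e i).inv
  refine ⟨⟨h, h', hom_ext_left ?_, hom_ext_left ?_⟩⟩
  · refine Scheme.Cover.hom_ext ((X.openCoverOfIsOpenCover O hO).pullback₁ (str E)) _ _ fun i => ?_
    show pullback.fst (str E) (O i).ι ≫ h.left ≫ h'.left = pullback.fst (str E) (O i).ι ≫ 𝟙 _
    rw [reassoc_of% (hh i), hh' i, Category.comp_id]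
    exact (Category.assoc _ _ _).symm.trans ((congrArg (· ≫ _)
      (congrArg (fun z : (FEt.restrict (O i).ι).obj E ⟶ _ => z.left) (e i).hom_inv_id)).trans (Category.id_comp _))
  · refine Scheme.Cover.hom_ext ((X.openCoverOfIsOpenCover O hO).pullback₁ (str F)) _ _ fun i => ?_
    show pullback.fst (str F) (O i).ι ≫ h'.left ≫ h.left = pullback.fst (str F) (O i).ι ≫ 𝟙 _
    rw [reassoc_of% (hh' i), hh i, Category.comp_id]
    exact (Category.assoc _ _ _).symm.trans ((congrArg (· ≫ _)
      (congrArg (fun z : (FEt.restrict (O i).ι).obj F ⟶ _ => z.left) (e i).inv_hom_id)).trans (Category.id_comp _))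

variable {k : Type u} [Field k] [IsAlgClosed k] {X Y : Scheme.{u}}
  (pX : X ⟶ Spec (CommRingCat.of k)) (pY : Y ⟶ Spec (CommRingCat.of k))

/-- **geometric points over rational points are rational** -/
theorem exists_rational (Y' : FEt.Cat Y) (y : Spec (CommRingCat.of k) ⟶ Y) {Ω : Type u} [Field Ω]
    (η : Spec (CommRingCat.of Ω) ⟶ Spec (CommRingCat.of k)) (b : Spec (CommRingCat.of Ω) ⟶ Y'.left)
    (hb : b ≫ str Y' = η ≫ y) : ∃ b₀, b₀ ≫ str Y' = y ∧ η ≫ b₀ = b := by
  let Z : FEt.Cat (Spec (CommRingCat.of k)) := (FEt.restrict y).obj Y'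
  haveI : IsLocallyArtinian (Spec (CommRingCat.of k)) := inferInstance
  haveI : LocallyQuasiFinite (str Z) := inferInstance
  haveI : IsLocallyArtinian Z.left := IsLocallyArtinian.of_locallyQuasiFinite (str Z)
  haveI : DiscreteTopology Z.left := inferInstance
  let bz : Spec (CommRingCat.of Ω) ⟶ Z.left := pullback.lift b η hb
  let O : Z.left.Opens := ⟨{bz (pt₀ Ω)}, isOpen_discrete _⟩
  let Z₁ := PiSpDesc.sub Z O (isClosed_discrete _)
  haveI : ConnectedSpace O.toScheme := Subtype.connectedSpace (isConnected_singleton (x := bz (pt₀ Ω)))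
  haveI : ConnectedSpace Z₁.left := ‹ConnectedSpace O.toScheme›
  haveI : IsSepClosed (IsLocalRing.ResidueField k) := Hensel.isSepClosed_of_ringEquiv
    (RingEquiv.ofBijective (IsLocalRing.residue k) ⟨(IsLocalRing.residue k).injective, IsLocalRing.residue_surjective⟩)
  haveI := FEtEssIm.isIso_of_strictlyHenselian (str Z₁)
  have hr : Set.range bz ⊆ Set.range O.ι := by
    rw [range_point, Scheme.Opens.range_ι]
    exact subset_rfl
  let l : Spec (CommRingCat.of Ω) ⟶ Z₁.left := IsOpenImmersion.lift O.ι bz hr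
  have hl : l ≫ O.ι = bz := IsOpenImmersion.lift_fac _ _ _
  have hstr : str Z₁ = O.ι ≫ pullback.snd (str Y') y := rfl
  have hlη : l ≫ str Z₁ = η := by
    rw [hstr]
    exact (Category.assoc _ _ _).symm.trans ((congrArg (· ≫ _) hl).trans (pullback.lift_snd _ _ _))
  refine ⟨inv (str Z₁) ≫ O.ι ≫ pullback.fst (str Y') y, ?_, ?_⟩
  · rw [Category.assoc, Category.assoc, pullback.condition, ← Category.assoc O.ι, ← Category.assoc (inv (str Z₁))]
    show (inv (str Z₁) ≫ str Z₁) ≫ y = y
    rw [IsIso.inv_hom_id, Category.id_comp]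
  · rw [← hlη, Category.assoc, IsIso.hom_inv_id_assoc]
    exact (Category.assoc _ _ _).symm.trans ((congrArg (· ≫ _) hl).trans (pullback.lift_fst _ _ _))

variable (W : FEt.Cat (pullback pX pY)) (y y' : Spec (CommRingCat.of k) ⟶ Y) (hy : y ≫ pY = 𝟙 _) (hy' : y' ≫ pY = 𝟙 _)

/-- the inclusion of `X` at a rational point -/
abbrev incl : X ⟶ pullback pX pY := pullback.lift (𝟙 X) (pX ≫ y) (by rw [Category.id_comp, Category.assoc, hy, Category.comp_id])

include hy' in
/-- **the case where `X` is proper** -/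
theorem iso_incl_of_proper_left [IsProper pX] [ConnectedSpace X] [ConnectedSpace Y] :
    Nonempty ((FEt.restrict (incl pX pY y hy)).obj W ≅ (FEt.restrict (incl pX pY y' hy')).obj W) := by
  obtain ⟨V₀, T, hT, ⟨e⟩⟩ := exists_constant pX pY W
  haveI := hT
  have key : ∀ (z : Spec (CommRingCat.of k) ⟶ Y) (hz : z ≫ pY = 𝟙 _),
      Nonempty ((FEt.restrict (incl pX pY z hz)).obj W ≅ (FEt.restrict (𝟙 X)).obj V₀) := by
    intro z hz
    obtain ⟨t, ht⟩ := exists_lift_point T z
    let κ : X ⟶ pullback (pullback.snd pX pY) (str T) :=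
      pullback.lift (incl pX pY z hz) (pX ≫ t) (by rw [pullback.lift_snd, Category.assoc, ht])
    have hκ : incl pX pY z hz = κ ≫ pullback.fst (pullback.snd pX pY) (str T) := (pullback.lift_fst _ _ _).symm
    exact ⟨restrictCompIso κ _ _ hκ W ≪≫ (FEt.restrict κ).mapIso e.symm ≪≫
      (restrictCompIso κ _ _ hκ _).symm ≪≫
      (restrictCompIso (incl pX pY z hz) (pullback.fst pX pY) (𝟙 X) (pullback.lift_fst _ _ _).symm V₀).symm⟩
  exact ⟨(key y hy).some ≪≫ (key y' hy').some.symm⟩

open PreGaloisCategory in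
include hy' in
/-- **the case where `Y` is proper** -/
theorem iso_incl_of_proper_right [IsProper pY] [ConnectedSpace X] [ConnectedSpace Y] :
    Nonempty ((FEt.restrict (incl pX pY y hy)).obj W ≅ (FEt.restrict (incl pX pY y' hy')).obj W) := by
  obtain ⟨Y', X', φ', hφ', hφs⟩ := exists_dominated pY pX ((FEt.restrict (pullbackSymmetry pY pX).hom).obj W)
  haveI := hφs
  let mP := pullback.map (str X' ≫ pX) (str Y' ≫ pY) pX pY (str X') (str Y') (𝟙 _)
        (Category.comp_id _) (Category.comp_id _)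
  let φ : pullback (str X' ≫ pX) (str Y' ≫ pY) ⟶ W.left :=
    (pullbackSymmetry _ _).hom ≫ φ' ≫ pullback.fst (str W) (pullbackSymmetry pY pX).hom
  have hφ : φ ≫ str W = mP := by
    have h : φ' ≫ pullback.snd (str W) (pullbackSymmetry pY pX).hom = _ := hφ'
    simp only [φ, Category.assoc, pullback.condition]
    rw [reassoc_of% h]
    apply pullback.hom_ext <;> simp [mP]
  haveI : Surjective (pullback.fst (str W) (pullbackSymmetry pY pX).hom) := inferInstance
  haveI : Surjective (φ' ≫ pullback.fst (str W) (pullbackSymmetry pY pX).hom) := inferInstance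
  haveI : Surjective φ := inferInstance
  have hprop : FEt.prop mP := MorphismProperty.pullbackMap (P := FEt.prop) X'.prop Y'.prop rfl rfl
  let Cφ : FEt.Cat W.left := MorphismProperty.Over.mk ⊤ φ
    (MorphismProperty.of_postcomp FEt.prop φ (str W) W.prop (by rw [hφ]; exact hprop))
  obtain ⟨x₀⟩ : Nonempty X := inferInstance
  obtain ⟨Ω, _, _, x, -⟩ := PiSpDesc.exists_geom_point x₀
  let η := x ≫ pX
  let p := pullback.fst pY η
  haveI := geometricallyConnected_of_connected pY
  haveI : ConnectedSpace (pullback pY η : Scheme.{u}) :=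
    GeometricallyConnected.geometrically_connectedSpace η _ _ (IsPullback.of_hasPullback _ _)
  let iY : pullback pY η ⟶ pullback pX pY :=
    pullback.lift (pullback.snd _ _ ≫ x) p (by rw [Category.assoc]; exact pullback.condition.symm)
  let pt : ∀ (z : Spec (CommRingCat.of k) ⟶ Y), z ≫ pY = 𝟙 _ → (Spec (CommRingCat.of Ω) ⟶ pullback pY η) :=
    fun z hz => pullback.lift (η ≫ z) (𝟙 _) (by rw [Category.assoc, hz, Category.comp_id, Category.id_comp])
  have hpt : ∀ z hz, pt z hz ≫ iY = x ≫ incl pX pY z hz := fun z hz => by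
    apply pullback.hom_ext <;> simp [pt, iY, incl, p, η] <;> exact Category.id_comp _
  obtain ⟨γ⟩ := nonempty_fiber_iso (pt y hy) (pt y' hy')
  let ω : ∀ (z : Spec (CommRingCat.of k) ⟶ Y) (hz : z ≫ pY = 𝟙 _) (b₀ : Spec (CommRingCat.of k) ⟶ Y'.left),
      b₀ ≫ str Y' = z → (X' ⟶ (FEt.restrict (incl pX pY z hz)).obj W) := fun z hz b₀ hb₀ =>
    MorphismProperty.Over.homMk
      (pullback.lift (pullback.lift (𝟙 X'.left) (str X' ≫ pX ≫ b₀)
          (by rw [Category.id_comp, Category.assoc, Category.assoc, reassoc_of% hb₀, hz, Category.comp_id]) ≫ φ) (str X')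
        (by rw [Category.assoc, hφ]; apply pullback.hom_ext <;> simp [mP, incl, hb₀] <;> exact Category.id_comp _))
      (pullback.lift_snd _ _ _)
  let ν : ∀ a : FEt.fiberObj x X', (FEt.restrict p).obj Y' ⟶ (FEt.restrict iY).obj W := fun a =>
    MorphismProperty.Over.homMk
      (pullback.lift (pullback.lift ((pullback.snd (str Y') p ≫ pullback.snd pY η) ≫ a.1) (pullback.fst (str Y') p)
          (by rw [← Category.assoc _ (str X') pX, Category.assoc _ a.1 (str X'), show a.1 ≫ str X' = x from a.2,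
                Category.assoc, Category.assoc, ← Category.assoc _ (str Y') pY, pullback.condition (f := str Y') (g := p),
                Category.assoc]
              exact congrArg (_ ≫ ·) (pullback.condition (f := pY) (g := η)).symm) ≫ φ) (pullback.snd (str Y') p)
        (by
          rw [Category.assoc, hφ]
          apply pullback.hom_ext
          · simp only [mP, iY, Category.assoc, pullback.lift_fst, pullback.lift_fst_assoc]
            exact congrArg (fun w => pullback.snd (str Y') p ≫ pullback.snd pY η ≫ w) a.2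
          · simp only [mP, iY, Category.assoc, pullback.lift_snd, pullback.lift_snd_assoc]
            exact pullback.condition))
      (pullback.lift_snd _ _ _)
  let toI : ∀ (z : Spec (CommRingCat.of k) ⟶ Y) (hz : z ≫ pY = 𝟙 _),
      FEt.fiberObj x ((FEt.restrict (incl pX pY z hz)).obj W) ≃ FEt.fiberObj (pt z hz) ((FEt.restrict iY).obj W) :=
    fun z hz => (basePts _ x W).trans
      ((Equiv.subtypeEquivRight fun s => by rw [hpt z hz]).trans (basePts iY (pt z hz) W).symm)
  let γW := (γ.app ((FEt.restrict iY).obj W)).toEquiv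
  let ψ := (toI y hy).trans (γW.trans (toI y' hy').symm)
  letI := galoisCategory x
  haveI := fiberFunctor x
  have key : ∀ (a : FEt.fiberObj x X') (b₀ : Spec (CommRingCat.of k) ⟶ Y'.left) (hb₀ : b₀ ≫ str Y' = y),
      ∃ (b₁ : Spec (CommRingCat.of k) ⟶ Y'.left) (hb₁ : b₁ ≫ str Y' = y'),
        ∀ a : FEt.fiberObj x X', ψ (fmap x (ω y hy b₀ hb₀) a) = fmap x (ω y' hy' b₁ hb₁) a := by
    intro _ b₀ hb₀
    let eb : FEt.fiberObj (pt y hy) ((FEt.restrict p).obj Y') :=
      ⟨pullback.lift (η ≫ b₀) (pt y hy) (by simp [pt, p, hb₀]), pullback.lift_snd _ _ _⟩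
    let eb' := (γ.app ((FEt.restrict p).obj Y')).hom eb
    have he' : eb'.1 ≫ pullback.snd (str Y') p = pt y' hy' := eb'.2
    obtain ⟨b₁, hb₁, hb₁'⟩ := exists_rational Y' y' η (eb'.1 ≫ pullback.fst (str Y') p) (by
      rw [Category.assoc, pullback.condition, ← Category.assoc, he']
      exact pullback.lift_fst _ _ _)
    refine ⟨b₁, hb₁, fun a => (toI y' hy').injective ?_⟩
    have ha : a.1 ≫ str X' = x := a.2
    show toI y' hy' ((toI y' hy').symm (γW (toI y hy _))) = _
    rw [Equiv.apply_symm_apply]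
    have h1 : toI y hy (fmap x (ω y hy b₀ hb₀) a) = fmap (pt y hy) (ν a) eb := by
      refine (basePts iY (pt y hy) W).injective (Subtype.ext ?_)
      simp only [toI, Equiv.trans_apply]
      refine (congrArg Subtype.val (Equiv.apply_symm_apply _ _)).trans ?_
      show (a.1 ≫ pullback.lift _ _ _) ≫ pullback.fst _ _ = (eb.1 ≫ pullback.lift _ _ _) ≫ pullback.fst _ _
      refine (Category.assoc _ _ _).trans ((congrArg (a.1 ≫ ·) (pullback.lift_fst _ _ _)).trans (Eq.trans ?_
        ((Category.assoc _ _ _).trans (congrArg (eb.1 ≫ ·) (pullback.lift_fst _ _ _))).symm))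
      refine (Category.assoc _ _ _).symm.trans (Eq.trans (congrArg (· ≫ φ) ?_) (Category.assoc _ _ _))
      apply pullback.hom_ext
      · simp [eb, pt] <;> exact (Category.id_comp _).symm
      · simp [eb, η, reassoc_of% ha]
    rw [h1]
    refine ((ConcreteCategory.congr_hom (γ.hom.naturality (ν a)) eb : _)).trans ?_
    refine (basePts iY (pt y' hy') W).injective (Subtype.ext ?_)
    simp only [toI, Equiv.trans_apply]
    refine Eq.trans ?_ (congrArg Subtype.val (Equiv.apply_symm_apply _ _)).symm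
    show (eb'.1 ≫ pullback.lift _ _ _) ≫ pullback.fst _ _ = (a.1 ≫ pullback.lift _ _ _) ≫ pullback.fst _ _
    refine (Category.assoc _ _ _).trans ((congrArg (eb'.1 ≫ ·) (pullback.lift_fst _ _ _)).trans (Eq.trans ?_
      ((Category.assoc _ _ _).trans (congrArg (a.1 ≫ ·) (pullback.lift_fst _ _ _))).symm))
    refine (Category.assoc _ _ _).symm.trans (Eq.trans (congrArg (· ≫ φ) ?_) (Category.assoc _ _ _))
    apply pullback.hom_ext
    · simp only [Category.assoc, pullback.lift_fst]
      rw [reassoc_of% he']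
      simp [pt] <;> exact Category.id_comp _
    · simp only [Category.assoc, pullback.lift_snd]
      rw [reassoc_of% ha, ← hb₁', Category.assoc]
  have hequiv : ∀ (σ : Aut (fibre x)) (w : FEt.fiberObj x ((FEt.restrict (incl pX pY y hy)).obj W)),
      ψ (σ.hom.app _ w) = σ.hom.app _ (ψ w) := by
    intro σ w
    obtain ⟨c⟩ := exists_point_of_mem_range (basePts _ x W w).1 Cφ (Surjective.surj (f := φ) _)
    have hc : c.1 ≫ φ = (basePts _ x W w).1 := c.2
    have hcW : c.1 ≫ mP = x ≫ incl pX pY y hy := by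
      rw [← hφ, ← Category.assoc, hc]; exact (basePts _ x W w).2
    have hc1 : (c.1 ≫ pullback.fst _ _) ≫ str X' = x := by
      simpa [mP, incl] using congrArg (· ≫ pullback.fst pX pY) hcW
    have hc2 : (c.1 ≫ pullback.snd _ _) ≫ str Y' = η ≫ y := by
      simpa [mP, incl, η] using congrArg (· ≫ pullback.snd pX pY) hcW
    obtain ⟨b₀, hb₀, hb₀'⟩ := exists_rational Y' y η _ hc2
    let a : FEt.fiberObj x X' := ⟨c.1 ≫ pullback.fst _ _, hc1⟩
    have hw : w = fmap x (ω y hy b₀ hb₀) a := by
      refine (basePts _ x W).injective (Subtype.ext ?_)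
      show _ = (a.1 ≫ pullback.lift _ _ _) ≫ pullback.fst _ _
      refine Eq.trans (hc.symm.trans ?_) ((Category.assoc _ _ _).trans (congrArg (a.1 ≫ ·) (pullback.lift_fst _ _ _))).symm
      refine Eq.trans (congrArg (· ≫ φ) ?_) (Category.assoc _ _ _)
      apply pullback.hom_ext
      · simp [a]
      · simp only [Category.assoc, pullback.lift_snd]
        rw [show a.1 ≫ str X' ≫ pX ≫ b₀ = η ≫ b₀ from
          (Category.assoc _ _ _).symm.trans ((congrArg (· ≫ pX ≫ b₀) hc1).trans (Category.assoc _ _ _).symm), hb₀']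
    obtain ⟨b₁, hb₁, hψ⟩ := key a b₀ hb₀
    have hnat : ∀ (E : FEt.Cat X) (f : X' ⟶ E) (a : FEt.fiberObj x X'),
        σ.hom.app E (fmap x f a) = fmap x f (σ.hom.app X' a) := fun E f a =>
      ConcreteCategory.congr_hom (σ.hom.naturality f) a
    rw [hw, hψ, hnat, hψ, ← hnat]
  obtain ⟨f, hf⟩ := GalCorr.exists_map_eq (fibre x) (X := (FEt.restrict (incl pX pY y hy)).obj W)
    (Y := (FEt.restrict (incl pX pY y' hy')).obj W) (fun w => ψ w) hequiv
  haveI : IsIso f := isIso_of_bijective_fmap x f (by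
    rw [show fmap x f = ψ from funext hf]; exact ψ.bijective)
  exact ⟨asIso f⟩

end Groth.Agent.FEtProd

namespace Groth.Agent.FEtProd

open Groth.Agent.FEtSepBC

/-- **restrictions to two rational points are isomorphic** -/
theorem iso_incl {k : Type u} [Field k] [IsAlgClosed k] {X Y : Scheme.{u}}
    (pX : X ⟶ Spec (CommRingCat.of k)) (pY : Y ⟶ Spec (CommRingCat.of k))
    [IsLocallyNoetherian X] [ConnectedSpace Y] (hprop : IsProper pX ∨ IsProper pY)
    (W : FEt.Cat (pullback pX pY)) (y y' : Spec (CommRingCat.of k) ⟶ Y)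
    (hy : 𝟙 X ≫ pX = (pX ≫ y) ≫ pY) (hy' : 𝟙 X ≫ pX = (pX ≫ y') ≫ pY) :
    Nonempty ((FEt.restrict (pullback.lift (𝟙 X) (pX ≫ y) hy)).obj W ≅
      (FEt.restrict (pullback.lift (𝟙 X) (pX ≫ y') hy')).obj W) := by
  haveI : LocallyConnectedSpace X := LocNoethTop.locallyConnectedSpace fun x => by
    obtain ⟨U, hU, hxU, -⟩ := exists_isAffineOpen_mem_and_subset (X := X) (x := x) (U := ⊤) trivial
    haveI := IsLocallyNoetherian.component_noetherian ⟨U, hU⟩
    exact ⟨U, U.isOpen.mem_nhds hxU, noetherianSpace_of_isAffineOpen U hU⟩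
  let O : _root_.ConnectedComponents X → X.Opens :=
    fun c => ⟨_root_.ConnectedComponents.mk ⁻¹' {c}, (isOpen_discrete _).preimage _root_.ConnectedComponents.continuous_coe⟩
  refine nonempty_iso_of_partition O (top_unique fun x _ => TopologicalSpace.Opens.mem_iSup.2 ⟨_, rfl⟩)
    (fun c d hcd => Set.disjoint_left.2 fun x h h' => hcd (h.symm.trans h')) _ _ fun c => Classical.choice ?_
  obtain ⟨x, rfl⟩ := _root_.ConnectedComponents.surjective_coe c
  let C := O (_root_.ConnectedComponents.mk x)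
  haveI : ConnectedSpace C.toScheme := Subtype.connectedSpace (by
    show _root_.IsConnected (_root_.ConnectedComponents.mk ⁻¹' {_root_.ConnectedComponents.mk x})
    rw [connectedComponents_preimage_singleton]
    exact isConnected_connectedComponent)
  let pC := C.ι ≫ pX
  obtain ⟨Ω, _, _, t, -⟩ := PiSpDesc.exists_geom_point (Y := C.toScheme) ⟨x, rfl⟩
  have hk : ∀ z : Spec (CommRingCat.of k) ⟶ Y, 𝟙 X ≫ pX = (pX ≫ z) ≫ pY → z ≫ pY = 𝟙 _ := fun z hz => by
    obtain ⟨θ, hθ⟩ := Spec.map_surjective (z ≫ pY)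
    obtain ⟨ι', hι⟩ := Spec.map_surjective (t ≫ pC)
    have h : Spec.map (θ ≫ ι') = Spec.map ι' := by
      rw [Spec.map_comp, hθ, hι]
      simp only [pC, Category.assoc]
      rw [Category.id_comp, Category.assoc] at hz
      rw [← hz]
    have h' := Spec.map_injective h
    rw [← hθ, show θ = 𝟙 _ from CommRingCat.hom_ext (RingHom.ext fun a =>
      ι'.hom.injective (congrArg (fun g : CommRingCat.of k ⟶ CommRingCat.of Ω => g.hom a) h')), Spec.map_id]
  have hy₀ := hk y hy
  have hy₀' := hk y' hy'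
  haveI : IsClosedImmersion C.ι := PiSpDesc.isClosedImmersion_ι C
    ((isClosed_discrete {_root_.ConnectedComponents.mk x}).preimage _root_.ConnectedComponents.continuous_coe)
  let jC : pullback pC pY ⟶ pullback pX pY :=
    pullback.lift (pullback.fst _ _ ≫ C.ι) (pullback.snd _ _) (by rw [Category.assoc]; exact pullback.condition)
  have hsq : ∀ (z : Spec (CommRingCat.of k) ⟶ Y) (hz : z ≫ pY = 𝟙 _) (hz' : 𝟙 X ≫ pX = (pX ≫ z) ≫ pY),
      incl pC pY z hz ≫ jC = C.ι ≫ pullback.lift (𝟙 X) (pX ≫ z) hz' := fun z hz hz' => by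
    apply pullback.hom_ext <;> simp [incl, jC, pC] <;> exact Category.id_comp _
  obtain ⟨e⟩ : Nonempty ((FEt.restrict (incl pC pY y hy₀)).obj ((FEt.restrict jC).obj W) ≅
      (FEt.restrict (incl pC pY y' hy₀')).obj ((FEt.restrict jC).obj W)) := by
    rcases hprop with h | h
    · haveI : IsProper pC := inferInstance
      exact iso_incl_of_proper_left pC pY _ y y' hy₀ hy₀'
    · exact iso_incl_of_proper_right pC pY _ y y' hy₀ hy₀'
  exact ⟨restrictSquareIso _ _ (incl pC pY y hy₀) jC (hsq y hy₀ hy).symm W ≪≫ e ≪≫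
    (restrictSquareIso _ _ (incl pC pY y' hy₀') jC (hsq y' hy₀' hy').symm W).symm⟩

end Groth.Agent.FEtProd
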